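import Cfsg.Agent.Lib.J1Unique.Bad2.TabF
import Cfsg.Agent.Lib.J1Unique.Bad2.TabC
import Cfsg.Agent.Lib.J1Unique.Words

/-! Generated data of the amalgam certificates. -/

set_option autoImplicit false
set_option maxRecDepth 100000

namespace Cfsg.Lib.J1Unique.Bad2

open Cfsg.Lib.CosetEnum
/-- The relations of this case. -/
def rels : List (List Nat) := relsAll relBad2

end Cfsg.Lib.J1Unique.Bad2
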